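import Mathlib
import Cfsg.Agent.S0144

/-!
An anisotropic pair of quadratic forms over the field of two elements has a solvable isometry group.
-/

set_option autoImplicit false
set_option linter.unusedSectionVars false
set_option linter.style.haveILetI false

namespace Cfsg.Agent.AnisoQuad

universe u

/-- Degree at most `d`, by finite differences. -/
def Deg {Q : Type u} [CommGroup Q] : ℕ → (Q → ZMod 2) → Prop
  | 0, f => ∀ a x, f (x * a) = f x
  | d + 1, f => ∀ a, Deg d (fun x => f (x * a) + f x)

variable {Q : Type u} [CommGroup Q]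

theorem deg_zero : ∀ d, Deg (Q := Q) d (fun _ => (0 : ZMod 2))
  | 0 => fun _ _ => rfl
  | d + 1 => fun a => by simpa using deg_zero d

theorem deg_succ : ∀ (d : ℕ) (f : Q → ZMod 2), Deg d f → Deg (d + 1) f
  | 0, f, h => fun a b x => by simp only [h a, CharTwo.add_self_eq_zero]
  | d + 1, f, h => fun a => deg_succ d _ (h a)

theorem deg_shift : ∀ (d : ℕ) (f : Q → ZMod 2) (b : Q), Deg d f → Deg d (fun x => f (x * b))
  | 0, f, b, h => fun a x => by simp only [mul_right_comm x a b, h a]
  | d + 1, f, b, h => fun a => by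
      have := deg_shift d _ b (h a)
      simpa only [mul_right_comm _ a b] using this

theorem deg_add : ∀ (d : ℕ) (f g : Q → ZMod 2), Deg d f → Deg d g → Deg d (fun x => f x + g x)
  | 0, f, g, hf, hg => fun a x => by simp only [hf a, hg a]
  | d + 1, f, g, hf, hg => fun a => by
      have := deg_add d _ _ (hf a) (hg a)
      simpa only [add_add_add_comm] using this

theorem deg_const (c : ZMod 2) : ∀ d, Deg (Q := Q) d (fun _ => c)
  | 0 => fun _ _ => rfl
  | d + 1 => fun a => by simpa only [CharTwo.add_self_eq_zero] using deg_zero d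

theorem deg_smul (c : ZMod 2) : ∀ (d : ℕ) (f : Q → ZMod 2), Deg d f → Deg d (fun x => c * f x)
  | 0, f, h => fun a x => by simp only [h a]
  | d + 1, f, h => fun a => by simpa only [mul_add] using deg_smul c d _ (h a)

theorem deg_mul : ∀ (n d e : ℕ), d + e = n → ∀ f g : Q → ZMod 2, Deg d f → Deg e g →
    Deg n (fun x => f x * g x) := by
  intro n
  induction n with
  | zero =>
    intro d e h f g hf hg
    obtain ⟨rfl, rfl⟩ : d = 0 ∧ e = 0 := by omega
    exact fun a x => by simp only [hf a, hg a]
  | succ n ih =>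
    intro d e h f g hf hg
    rcases Nat.eq_zero_or_pos d with rfl | hd
    · obtain rfl : e = n + 1 := by omega
      have hc : f = fun _ => f 1 := funext fun x => by simpa using hf x 1
      rw [hc]
      exact deg_smul _ _ g hg
    rcases Nat.eq_zero_or_pos e with rfl | he
    · obtain rfl : d = n + 1 := by omega
      have hc : g = fun _ => g 1 := funext fun x => by simpa using hg x 1
      rw [hc]
      simp only [mul_comm _ (g 1)]
      exact deg_smul _ _ f hf
    obtain ⟨d, rfl⟩ : ∃ k, d = k + 1 := ⟨d - 1, by omega⟩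
    obtain ⟨e, rfl⟩ : ∃ k, e = k + 1 := ⟨e - 1, by omega⟩
    intro a
    have h1 := ih d (e + 1) (by omega) _ _ (hf a) (deg_shift _ g a hg)
    have h2 := ih (d + 1) e (by omega) _ _ hf (hg a)
    convert deg_add n _ _ h1 h2 using 1
    funext x
    linear_combination (-(f x * g (x * a))) * (CharTwo.two_eq_zero (R := ZMod 2))

/-- The sum of a function of small degree over a large elementary abelian group is zero. -/
theorem sum_eq_zero : ∀ (d : ℕ) (Q : Type u) [CommGroup Q] [Fintype Q] (f : Q → ZMod 2),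
    (∀ x : Q, x * x = 1) → 2 ^ d < Fintype.card Q → Deg d f → ∑ x, f x = 0 := by
  intro d
  induction d with
  | zero =>
    intro Q _ _ f h2 hc hf
    haveI : Nontrivial Q := Fintype.one_lt_card_iff_nontrivial.1 (by simpa using hc)
    obtain ⟨a, ha⟩ := exists_ne (1 : Q)
    refine Finset.sum_involution (fun x _ => x * a) ?_ ?_ (fun x _ => Finset.mem_univ _) ?_
    · intro x _; rw [hf a, CharTwo.add_self_eq_zero]
    · intro x _ _ e; exact ha (mul_eq_left.1 e)
    · intro x _; rw [mul_assoc, h2, mul_one]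
  | succ d ih =>
    intro Q _ _ f h2 hc hf
    classical
    haveI : Nontrivial Q := Fintype.one_lt_card_iff_nontrivial.1
      (lt_of_le_of_lt Nat.one_le_two_pow hc)
    obtain ⟨a, ha⟩ := exists_ne (1 : Q)
    set A := Subgroup.zpowers a with hA
    letI : Fintype (Q ⧸ A) := Fintype.ofFinite _
    set g : Q ⧸ A → ZMod 2 := fun y => f (y.out * a) + f y.out with hg
    have hmem : ∀ x ∈ A, x = 1 ∨ x = a := by
      intro x hx
      obtain ⟨k, rfl⟩ := Subgroup.mem_zpowers_iff.1 hx
      rcases Int.even_or_odd k with ⟨m, rfl⟩ | ⟨m, rfl⟩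
      · exact Or.inl (by rw [zpow_add, ← mul_zpow, h2, one_zpow])
      · exact Or.inr (by rw [zpow_add, zpow_mul, zpow_two, h2, one_zpow, one_mul, zpow_one])
    have hinv : ∀ x : Q, g (x : Q ⧸ A) = f (x * a) + f x := by
      intro x
      obtain ⟨⟨c, hc'⟩, he⟩ := QuotientGroup.mk_out_eq_mul A x
      simp only [hg, he]
      rcases hmem c hc' with rfl | rfl
      · rw [mul_one]
      · rw [mul_assoc x, h2, mul_one, add_comm]
    have key : ∀ (e : ℕ) (u : Q → ZMod 2) (v : Q ⧸ A → ZMod 2), (∀ x : Q, v (x : Q ⧸ A) = u x) →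
        Deg e u → Deg e v := by
      intro e
      induction e with
      | zero =>
        intro u v huv hu b x
        induction b using QuotientGroup.induction_on with
        | _ b =>
        induction x using QuotientGroup.induction_on with
        | _ x => rw [← QuotientGroup.mk_mul, huv, huv, hu b]
      | succ e ihe =>
        intro u v huv hu b
        induction b using QuotientGroup.induction_on with
        | _ b => exact ihe _ _ (fun x => by rw [← QuotientGroup.mk_mul, huv, huv]) (hu b)
    have h2' : ∀ y : Q ⧸ A, y * y = 1 := fun y => by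
      induction y using QuotientGroup.induction_on with
      | _ y => rw [← QuotientGroup.mk_mul, h2, QuotientGroup.mk_one]
    have hcard : 2 ^ d < Fintype.card (Q ⧸ A) := by
      have h1 := Subgroup.card_eq_card_quotient_mul_card_subgroup A
      have h3 : Nat.card A = 2 := by
        rw [hA, Nat.card_zpowers]
        exact orderOf_eq_prime (by rw [pow_two, h2]) ha
      rw [Nat.card_eq_fintype_card, Nat.card_eq_fintype_card, h3] at h1
      rw [h1, pow_succ] at hc
      omega
    rw [← Finset.sum_fiberwise Finset.univ (fun x : Q => (x : Q ⧸ A)) f,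
      ← ih (Q ⧸ A) g h2' hcard (key d _ g hinv (hf a))]
    refine Finset.sum_congr rfl fun y _ => ?_
    induction y using QuotientGroup.induction_on with
    | _ y =>
    have hfib : (Finset.univ.filter fun x : Q => (x : Q ⧸ A) = (y : Q ⧸ A)) = {y * a, y} := by
      ext x
      simp only [Finset.mem_filter, Finset.mem_univ, true_and, Finset.mem_insert,
        Finset.mem_singleton, QuotientGroup.eq]
      constructor
      · intro h
        rcases hmem _ h with e | e
        · exact Or.inr (inv_mul_eq_one.1 e)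
        · refine Or.inl ?_
          rw [← e, mul_comm x⁻¹ y, ← mul_assoc, h2, one_mul]
          exact (inv_eq_of_mul_eq_one_right (h2 x)).symm
      · rintro (rfl | rfl)
        · simpa [hA] using Subgroup.inv_mem _ (Subgroup.mem_zpowers a)
        · simp
    rw [hfib, Finset.sum_pair (fun e => ha (mul_eq_left.1 e)), hinv]

/-- An anisotropic pair of quadratic forms. -/
structure Form (Q : Type u) [CommGroup Q] where
  q : Q → Fin 2 → ZMod 2
  b : Q → Q → Fin 2 → ZMod 2
  sq : ∀ x : Q, x * x = 1
  q_mul : ∀ x y, q (x * y) = q x + q y + b x y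
  b_left : ∀ x y z, b (x * y) z = b x z + b y z
  aniso : ∀ x, q x = 0 → x = 1

variable (F : Form Q)

theorem b_symm (x y : Q) : F.b x y = F.b y x := by
  have h1 := F.q_mul x y
  have h2 := F.q_mul y x
  rw [mul_comm y x, h1, add_comm (F.q y) (F.q x)] at h2
  exact add_left_cancel h2

theorem q_one : F.q 1 = 0 := by
  have h := F.q_mul 1 1
  have hb : F.b 1 1 = 0 := by
    have h' := F.b_left 1 1 1
    rw [one_mul] at h'
    exact left_eq_add.1 h'
  rw [one_mul, hb, add_zero] at h
  exact left_eq_add.1 h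

theorem dot_combine : ∀ u v : Fin 2 → ZMod 2, u ≠ 0 → v ≠ 0 →
    ∃ c : Fin 2 → ZMod 2, c 0 * u 0 + c 1 * u 1 = 1 ∧ c 0 * v 0 + c 1 * v 1 = 1 := by decide

theorem three_values : ∀ u v w : Fin 2 → ZMod 2, u ≠ 0 → v ≠ 0 → w ≠ 0 → u ≠ v → u ≠ w →
    v ≠ w → ∀ z : Fin 2 → ZMod 2, z ≠ 0 → z = u ∨ z = v ∨ z = w := by decide

include F in
/-- There are at most sixteen elements. -/
theorem card_le [Finite Q] : Nat.card Q ≤ 16 := by
  classical
  letI : Fintype Q := Fintype.ofFinite Q
  by_contra h
  rw [Nat.card_eq_fintype_card, not_le] at h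
  have hdeg : ∀ i, Deg 2 (fun x : Q => 1 + F.q x i) := by
    intro i a c e z
    simp only [F.q_mul, F.b_left, Pi.add_apply]
    ring_nf
    simp [show (4 : ZMod 2) = 0 from rfl, show (2 : ZMod 2) = 0 from rfl]
  have hsum := sum_eq_zero 4 Q _ F.sq (by simpa using h) (deg_mul 4 2 2 rfl _ _ (hdeg 0) (hdeg 1))
  rw [Finset.sum_eq_single (1 : Q)] at hsum
  · simp [q_one F] at hsum
  · intro x _ hx
    by_contra hne
    apply hx (F.aniso x ?_)
    funext i
    rcases mul_ne_zero_iff.1 hne with ⟨h0, h1⟩
    have key : ∀ w : ZMod 2, 1 + w ≠ 0 → w = 0 := by decide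
    fin_cases i
    exacts [key _ h0, key _ h1]
  · simp

/-- No large subgroup on which a combination of the forms is constantly one. -/
theorem not_const (c : Fin 2 → ZMod 2) {R : Subgroup Q} [Finite Q] (hR : 4 < Nat.card R)
    (h : ∀ x ∈ R, x ≠ 1 → c 0 * F.q x 0 + c 1 * F.q x 1 = 1) : False := by
  classical
  set φ : (Fin 2 → ZMod 2) → ZMod 2 := fun v => c 0 * v 0 + c 1 * v 1 with hφ
  have hadd : ∀ u v, φ (u + v) = φ u + φ v := fun u v => by simp [hφ, Pi.add_apply]; ring
  have hb : ∀ x ∈ R, ∀ y ∈ R, x ≠ 1 → y ≠ 1 → x ≠ y → φ (F.b x y) = 1 := by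
    intro x hx y hy hx1 hy1 hxy
    have e := h _ (mul_mem hx hy) (fun e => hxy (by rw [← mul_one x, ← F.sq y, ← mul_assoc, e, one_mul]))
    have e' : φ (F.q (x * y)) = 1 := e
    rw [F.q_mul, hadd, hadd, show φ (F.q x) = 1 from h x hx hx1,
      show φ (F.q y) = 1 from h y hy hy1, CharTwo.add_self_eq_zero, zero_add] at e'
    exact e'
  obtain ⟨x, hx, hx1⟩ : ∃ x ∈ R, x ≠ 1 := by
    by_contra h'
    push_neg at h'
    rw [Subgroup.eq_bot_iff_forall R |>.2 h', Subgroup.card_bot] at hR
    omega
  have hfin : ∀ s : Finset Q, s.card ≤ 4 → ∃ y ∈ R, y ∉ s := by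
    intro s hs
    by_contra h'
    push_neg at h'
    have := Set.ncard_le_ncard (s := (R : Set Q)) (t := (s : Set Q)) h'
    rw [Set.ncard_coe_finset, ← Nat.card_coe_set_eq] at this
    exact absurd (this.trans hs) (not_le.2 hR)
  obtain ⟨y, hy, hys⟩ := hfin {1, x} (Finset.card_le_two.trans (by norm_num))
  simp only [Finset.mem_insert, Finset.mem_singleton, not_or] at hys
  obtain ⟨z, hz, hzs⟩ := hfin {1, x, y, x * y} Finset.card_le_four
  simp only [Finset.mem_insert, Finset.mem_singleton, not_or] at hzs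
  obtain ⟨hz1, hzx, hzy, hzxy⟩ := hzs
  have h1 := hb x hx z hz hx1 hz1 (Ne.symm hzx)
  have h2 := hb y hy z hz hys.1 hz1 (Ne.symm hzy)
  have h3 := hb (x * y) (mul_mem hx hy) z hz
    (fun e => hys.2 (by rw [← one_mul y, ← F.sq x, mul_assoc, e, mul_one])) hz1 (Ne.symm hzxy)
  rw [F.b_left, hadd, h1, h2, CharTwo.add_self_eq_zero] at h3
  exact zero_ne_one h3

end Cfsg.Agent.AnisoQuad
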