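import Cfsg.Agent.Lib.AnisoQuad.Basic

/-!
The isometry group of an anisotropic pair of quadratic forms is solvable.
-/

set_option autoImplicit false
set_option linter.unusedSectionVars false
set_option linter.style.haveILetI false

namespace Cfsg.Agent.AnisoQuad

universe u

variable {Q : Type u} [CommGroup Q] [Finite Q] (F : Form Q)

/-- The elements fixed by an automorphism. -/
def fixSub (σ : MulAut Q) : Subgroup Q where
  carrier := {x | σ x = x}
  one_mem' := map_one σ
  mul_mem' := fun {x y} hx hy => by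
    show σ (x * y) = x * y
    rw [map_mul, hx, hy]
  inv_mem' := fun {x} hx => by
    show σ x⁻¹ = x⁻¹
    rw [map_inv, hx]

theorem mem_fixSub {σ : MulAut Q} {x : Q} : x ∈ fixSub σ ↔ σ x = x := Iff.rfl

theorem pow_apply_succ (σ : MulAut Q) (n : ℕ) (x : Q) : (σ ^ (n + 1)) x = σ ((σ ^ n) x) := by
  rw [pow_succ', MulAut.mul_apply]

/-- Fixed points in an invariant set, modulo the order of the automorphism. -/
theorem card_fix_modEq {σ : MulAut Q} {r : ℕ} [Fact r.Prime] (hσ : σ ^ r = 1) (P : Q → Prop)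
    (hP : ∀ x, P (σ x) ↔ P x) :
    Nat.card {x : Q // P x ∧ σ x = x} ≡ Nat.card {x : Q // P x} [MOD r] := by
  classical
  letI : Fintype Q := Fintype.ofFinite Q
  set e : Equiv.Perm {x : Q // P x} := Equiv.Perm.subtypePerm σ.toEquiv hP with he
  have hpow : ∀ n, ∀ x : {x : Q // P x}, ((e ^ n) x : Q) = (σ ^ n) (x : Q) := by
    intro n
    induction n with
    | zero => intro x; rfl
    | succ n ih =>
      intro x
      rw [pow_apply_succ, pow_succ', Equiv.Perm.mul_apply, ← ih]
      rfl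
  have h1 : e ^ r ^ 1 = 1 := by
    ext x
    rw [pow_one, hpow, hσ]; rfl
  have h2 := Equiv.Perm.card_compl_support_modEq (p := r) (n := 1) h1
  rw [Nat.card_eq_fintype_card (α := {x : Q // P x})]
  refine (congrArg (· % r) ?_).trans h2
  rw [← Nat.card_eq_finsetCard]
  refine Nat.card_congr ((Equiv.subtypeSubtypeEquivSubtypeInter P (fun x => σ x = x)).symm.trans
    (Equiv.subtypeEquivRight fun x => ?_))
  simp [Equiv.Perm.mem_support, he, Subtype.ext_iff]

theorem card_fixSub_modEq {σ : MulAut Q} {r : ℕ} [Fact r.Prime] (hσ : σ ^ r = 1) :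
    Nat.card (fixSub σ) ≡ Nat.card Q [MOD r] := by
  have h := card_fix_modEq hσ (fun _ => True) (fun _ => Iff.rfl)
  rw [Nat.card_congr (Equiv.subtypeUnivEquiv (fun _ : Q => trivial))] at h
  refine (congrArg (· % r) (Nat.card_congr (Equiv.subtypeEquivRight fun x => ?_))).trans h
  exact ⟨fun hx => ⟨trivial, hx⟩, fun hx => hx.2⟩

include F in
theorem card_cases : ∃ k ≤ 4, Nat.card Q = 2 ^ k := by
  haveI : Fact (Nat.Prime 2) := ⟨Nat.prime_two⟩
  have hp : IsPGroup 2 Q := fun x => ⟨1, by rw [pow_one, pow_two, F.sq]⟩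
  obtain ⟨k, hk⟩ := IsPGroup.iff_card.1 hp
  refine ⟨k, ?_, hk⟩
  have h := card_le F
  rw [hk] at h
  by_contra hlt
  exact absurd (h.trans_lt' (Nat.pow_lt_pow_right (by norm_num) (by omega : 4 < k))) (lt_irrefl _)

include F in
theorem fix_cases (σ : MulAut Q) (hne : σ ≠ 1) :
    ∃ j k, j < k ∧ k ≤ 4 ∧ Nat.card (fixSub σ) = 2 ^ j ∧ Nat.card Q = 2 ^ k := by
  obtain ⟨k, hk4, hk⟩ := card_cases F
  obtain ⟨j, -, hj⟩ := (Nat.dvd_prime_pow Nat.prime_two).1 (hk ▸ Subgroup.card_subgroup_dvd_card (fixSub σ))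
  refine ⟨j, k, ?_, hk4, hj, hk⟩
  have hlt : Nat.card (fixSub σ) < Nat.card Q := by
    refine lt_of_le_of_ne (Subgroup.card_le_card_group _) fun e => hne ?_
    ext x
    exact mem_fixSub.1 ((Subgroup.eq_top_of_card_eq _ e) ▸ Subgroup.mem_top x)
  rw [hj, hk] at hlt
  exact (Nat.pow_lt_pow_iff_right (by norm_num)).1 hlt

include F in
/-- Only the primes 2, 3, 5, 7 occur. -/
theorem order_prime {σ : MulAut Q} {r : ℕ} (hr : r.Prime) (hσ : σ ^ r = 1) (hne : σ ≠ 1) :
    r ≤ 7 := by
  haveI := Fact.mk hr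
  obtain ⟨j, k, hjk, hk, hj, hkc⟩ := fix_cases F σ hne
  have h := card_fixSub_modEq hσ
  rw [hj, hkc, Nat.modEq_iff_dvd' (Nat.pow_le_pow_right (by norm_num) hjk.le)] at h
  by_contra h7
  have hle := Nat.le_of_dvd (Nat.sub_pos_of_lt (Nat.pow_lt_pow_right (by norm_num) hjk)) h
  have hb : 2 ^ k ≤ 16 := (Nat.pow_le_pow_right (by norm_num) hk).trans (by norm_num)
  have h15 : r ≤ 15 := by
    have := Nat.one_le_two_pow (n := j)
    omega
  have h11 : r = 11 ∨ r = 13 := by interval_cases r <;> first | omega | norm_num at hr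
  rcases h11 with rfl | rfl <;> interval_cases k <;> interval_cases j <;> norm_num at h

variable {σ : MulAut Q}

theorem q_pow (hq : ∀ x, F.q (σ x) = F.q x) (i : ℕ) (x : Q) : F.q ((σ ^ i) x) = F.q x := by
  induction i with
  | zero => rfl
  | succ i ih => rw [pow_apply_succ, hq, ih]

theorem not_seven (hq : ∀ x, F.q (σ x) = F.q x) (hσ : σ ^ 7 = 1) : σ = 1 := by
  classical
  by_contra hne
  haveI : Fact (Nat.Prime 7) := ⟨by norm_num⟩
  obtain ⟨j, k, hjk, hk, hj, hkc⟩ := fix_cases F σ hne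
  have h := card_fixSub_modEq hσ
  rw [hj, hkc, Nat.modEq_iff_dvd' (Nat.pow_le_pow_right (by norm_num) hjk.le)] at h
  have hkj : k = j + 3 := by
    interval_cases k <;> interval_cases j <;> first | omega | norm_num at h
  set π : Q →* Q := ∏ i ∈ Finset.range 7, (σ ^ i).toMonoidHom with hπdef
  have hπ : ∀ x, π x = ∏ i ∈ Finset.range 7, (σ ^ i) x := fun x => by
    rw [hπdef, MonoidHom.finsetProd_apply]; rfl
  have hfix : ∀ x, π x ∈ fixSub σ := by
    intro x
    rw [mem_fixSub, hπ, map_prod]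
    simp only [← pow_apply_succ]
    have e1 := Finset.prod_range_succ' (fun i => (σ ^ i) x) 7
    rw [Finset.prod_range_succ] at e1
    rw [hσ, pow_zero] at e1
    exact (mul_right_cancel e1).symm
  have hπfix : ∀ x ∈ fixSub σ, π x = x := by
    intro x hx
    have hp : ∀ i : ℕ, (σ ^ i) x = x := fun i => by
      induction i with
      | zero => rfl
      | succ i ih => rw [pow_apply_succ, ih]; exact hx
    rw [hπ]
    simp only [hp, Finset.prod_const, Finset.card_range]
    rw [show (7 : ℕ) = 2 * 3 + 1 by norm_num, pow_succ, pow_mul, pow_two, F.sq, one_pow, one_mul]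
  have hrange : π.range = fixSub σ := by
    refine le_antisymm ?_ fun x hx => ⟨x, hπfix x hx⟩
    rintro _ ⟨x, rfl⟩
    exact hfix x
  have hR : Nat.card π.ker = 8 := by
    have h1 := π.ker.card_mul_index
    rw [Subgroup.index_ker, hrange, hj, hkc, hkj, pow_add, mul_comm (2 ^ j)] at h1
    exact Nat.eq_of_mul_eq_mul_right (Nat.two_pow_pos j) h1
  obtain ⟨x, hx, hx1⟩ : ∃ x ∈ π.ker, x ≠ 1 := by
    by_contra h'
    push_neg at h'
    rw [Subgroup.eq_bot_iff_forall π.ker |>.2 h', Subgroup.card_bot] at hR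
    norm_num at hR
  have hinv : ∀ i : ℕ, (σ ^ i) x ∈ π.ker ∧ (σ ^ i) x ≠ 1 := by
    intro i
    refine ⟨?_, fun e => hx1 ((σ ^ i).injective (e.trans (map_one _).symm))⟩
    have hc : π ((σ ^ i) x) = (σ ^ i) (π x) := by
      rw [hπ, hπ, map_prod]
      refine Finset.prod_congr rfl fun k _ => ?_
      rw [← MulAut.mul_apply, ← MulAut.mul_apply, ← pow_add, ← pow_add, Nat.add_comm]
    rw [MonoidHom.mem_ker, hc, MonoidHom.mem_ker.1 hx, map_one]
  have hkey : ∀ a b : ℕ, a < b → b < 7 → (σ ^ a) x = (σ ^ b) x → False := by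
    intro a b hlt hb he
    have hfx : (σ ^ (b - a)) x = x := by
      apply (σ ^ a).injective
      rw [← MulAut.mul_apply, ← pow_add, show a + (b - a) = b by omega]
      exact he.symm
    have hm : ∀ m : ℕ, (σ ^ ((b - a) * m)) x = x := by
      intro m
      induction m with
      | zero => rfl
      | succ m ih => rw [Nat.mul_succ, pow_add, MulAut.mul_apply, hfx, ih]
    obtain ⟨m, hm1⟩ : ∃ m, (b - a) * m % 7 = 1 := by
      have hd : b - a < 7 := by omega
      have hd0 : 0 < b - a := by omega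
      generalize b - a = d at hd hd0
      interval_cases d
      exacts [⟨1, rfl⟩, ⟨4, rfl⟩, ⟨5, rfl⟩, ⟨2, rfl⟩, ⟨3, rfl⟩, ⟨6, rfl⟩]
    have hsx : σ x = x := by
      have := hm m
      rwa [← Nat.div_add_mod ((b - a) * m) 7, hm1, pow_add, pow_mul, hσ, one_pow, one_mul,
        pow_one] at this
    have := hπfix x hsx
    rw [MonoidHom.mem_ker.1 hx] at this
    exact hx1 this.symm
  have hinj : Set.InjOn (fun i => (σ ^ i) x) (Finset.range 7 : Finset ℕ) := by
    intro a ha b hb e
    simp only [Finset.coe_range, Set.mem_Iio] at ha hb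
    rcases lt_trichotomy a b with h | h | h
    exacts [(hkey a b h hb e).elim, h, (hkey b a h ha e.symm).elim]
  letI : Fintype Q := Fintype.ofFinite Q
  have himg : (Finset.range 7).image (fun i => (σ ^ i) x) =
      (Finset.univ.filter fun y => y ∈ π.ker ∧ y ≠ 1) := by
    refine Finset.eq_of_subset_of_card_le ?_ ?_
    · intro y hy
      obtain ⟨i, -, rfl⟩ := Finset.mem_image.1 hy
      exact Finset.mem_filter.2 ⟨Finset.mem_univ _, hinv i⟩
    · rw [Finset.card_image_of_injOn hinj, Finset.card_range]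
      have h1 : (Finset.univ.filter fun y => y ∈ π.ker ∧ y ≠ 1) =
          (Finset.univ.filter fun y => y ∈ π.ker).erase 1 := by
        ext y; simp [and_comm]
      rw [h1, Finset.card_erase_of_mem (by simp)]
      have h8 : (Finset.univ.filter fun y => y ∈ π.ker).card = 8 := by
        rw [← Fintype.card_subtype, ← Nat.card_eq_fintype_card]; exact hR
      omega
  have hne0 : F.q x ≠ 0 := fun e => hx1 (F.aniso x e)
  obtain ⟨c, hc, -⟩ := dot_combine _ _ hne0 hne0
  refine not_const F c (R := π.ker) (by omega) fun y hy hy1 => ?_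
  have hmem : y ∈ (Finset.range 7).image (fun i => (σ ^ i) x) := by
    rw [himg]; exact Finset.mem_filter.2 ⟨Finset.mem_univ _, hy, hy1⟩
  obtain ⟨i, -, rfl⟩ := Finset.mem_image.1 hmem
  rwa [q_pow F hq]

theorem exists_two_others : ∀ v : Fin 2 → ZMod 2, ∃ u w : Fin 2 → ZMod 2,
    u ≠ 0 ∧ w ≠ 0 ∧ u ≠ w ∧ u ≠ v ∧ w ≠ v := by decide

/-- An isometry of order five forces all three nonzero values to be taken five times. -/
theorem fibres_of_five (hq : ∀ x, F.q (σ x) = F.q x) (hσ : σ ^ 5 = 1) (hne : σ ≠ 1) :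
    Nat.card Q = 16 ∧ ∀ v : Fin 2 → ZMod 2, v ≠ 0 → Nat.card {x : Q // F.q x = v} = 5 := by
  classical
  haveI : Fact (Nat.Prime 5) := ⟨by norm_num⟩
  letI : Fintype Q := Fintype.ofFinite Q
  obtain ⟨j, k, hjk, hk, hj, hkc⟩ := fix_cases F σ hne
  have h := card_fixSub_modEq hσ
  rw [hj, hkc, Nat.modEq_iff_dvd' (Nat.pow_le_pow_right (by norm_num) hjk.le)] at h
  have hkj : k = 4 ∧ j = 0 := by
    interval_cases k <;> interval_cases j <;> first | omega | norm_num at h
  obtain ⟨rfl, rfl⟩ := hkj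
  refine ⟨hkc, ?_⟩
  have hsurj : ∀ v : Fin 2 → ZMod 2, v ≠ 0 → ∃ x, F.q x = v := by
    intro v hv
    by_contra hv'
    push_neg at hv'
    obtain ⟨u, w, hu, hw, huw, huv, hwv⟩ : ∃ u w : Fin 2 → ZMod 2,
        u ≠ 0 ∧ w ≠ 0 ∧ u ≠ w ∧ u ≠ v ∧ w ≠ v := by
      exact exists_two_others v
    obtain ⟨c, hcu, hcw⟩ := dot_combine u w hu hw
    refine not_const F c (R := ⊤) (by rw [Subgroup.card_top, hkc]; norm_num) fun x _ hx => ?_
    rcases three_values u w v hu hw hv huw huv hwv (F.q x) (fun e => hx (F.aniso x e)) with e | e | e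
    · rw [e]; exact hcu
    · rw [e]; exact hcw
    · exact absurd e (hv' x)
  have hdvd : ∀ v : Fin 2 → ZMod 2, v ≠ 0 → 5 ∣ Nat.card {x : Q // F.q x = v} := by
    intro v hv
    have h1 := card_fix_modEq hσ (fun x => F.q x = v) (fun x => by rw [hq])
    have h0 : IsEmpty {x : Q // F.q x = v ∧ σ x = x} := ⟨fun x => hv (by
      have hb : fixSub σ = ⊥ := Subgroup.eq_bot_of_card_eq _ (hj.trans (pow_zero 2))
      have hm : (x : Q) ∈ fixSub σ := x.2.2
      rw [hb, Subgroup.mem_bot] at hm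
      rw [← x.2.1, hm, q_one F])⟩
    rw [Nat.card_of_isEmpty] at h1
    exact Nat.modEq_zero_iff_dvd.1 h1.symm
  set n := fun v : Fin 2 → ZMod 2 => (Finset.univ.filter fun x : Q => F.q x = v).card with hn
  have hcount : ∑ v : Fin 2 → ZMod 2, n v = 16 := by
    rw [hn, ← Finset.card_eq_sum_card_fiberwise (fun x _ => Finset.mem_univ (F.q x)),
      Finset.card_univ, ← Nat.card_eq_fintype_card, hkc]
    norm_num
  have h0 : n 0 = 1 := by
    rw [hn, Finset.card_eq_one]
    refine ⟨1, ?_⟩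
    ext x
    simp only [Finset.mem_filter, Finset.mem_univ, true_and, Finset.mem_singleton]
    exact ⟨F.aniso x, fun e => e ▸ q_one F⟩
  have hge : ∀ v : Fin 2 → ZMod 2, v ≠ 0 → 5 ≤ n v := by
    intro v hv
    have h1 := hdvd v hv
    rw [Nat.card_eq_fintype_card, Fintype.card_subtype] at h1
    obtain ⟨x, hx⟩ := hsurj v hv
    exact Nat.le_of_dvd (Finset.card_pos.2 ⟨x, by simp [hx]⟩) h1
  intro v hv
  rw [Nat.card_eq_fintype_card, Fintype.card_subtype]
  show n v = 5
  have huniv : (Finset.univ : Finset (Fin 2 → ZMod 2)) = {0, ![1, 0], ![0, 1], ![1, 1]} := by decide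
  rw [huniv, Finset.sum_insert (by decide), Finset.sum_insert (by decide),
    Finset.sum_insert (by decide), Finset.sum_singleton, h0] at hcount
  have a1 := hge ![1, 0] (by decide)
  have a2 := hge ![0, 1] (by decide)
  have a3 := hge ![1, 1] (by decide)
  rcases three_values ![1, 0] ![0, 1] ![1, 1] (by decide) (by decide) (by decide) (by decide)
    (by decide) (by decide) v hv with e | e | e <;> rw [e] <;> omega

include F in
theorem not_three_five {τ : MulAut Q} (hq : ∀ x, F.q (σ x) = F.q x) (hσ : σ ^ 5 = 1)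
    (hne : σ ≠ 1) (hqt : ∀ x, F.q (τ x) = F.q x) (hτ : τ ^ 3 = 1) : τ = 1 := by
  classical
  letI : Fintype Q := Fintype.ofFinite Q
  haveI : Fact (Nat.Prime 3) := ⟨Nat.prime_three⟩
  by_contra hτne
  obtain ⟨h16, hfib⟩ := fibres_of_five F hq hσ hne
  set S := Finset.univ.filter fun x : Q => τ x = x with hS
  have hone : ∀ v : Fin 2 → ZMod 2, v ≠ 0 → 2 ≤ (S.filter fun x => F.q x = v).card := by
    intro v hv
    have h1 := card_fix_modEq hτ (fun x => F.q x = v) (fun x => by rw [hqt])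
    rw [hfib v hv, Nat.card_eq_fintype_card, Fintype.card_subtype] at h1
    have h2 : (S.filter fun x => F.q x = v) =
        (Finset.univ.filter fun x : Q => F.q x = v ∧ τ x = x) := by
      ext x; simp [hS, and_comm]
    rw [h2]
    unfold Nat.ModEq at h1
    omega
  have h7 : 7 ≤ S.card := by
    rw [Finset.card_eq_sum_card_fiberwise (f := F.q) (t := Finset.univ) fun x _ => Finset.mem_univ _]
    have huniv : (Finset.univ : Finset (Fin 2 → ZMod 2)) = {0, ![1, 0], ![0, 1], ![1, 1]} := by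
      decide
    rw [huniv, Finset.sum_insert (by decide), Finset.sum_insert (by decide),
      Finset.sum_insert (by decide), Finset.sum_singleton]
    have a0 : 1 ≤ (S.filter fun x => F.q x = 0).card :=
      Finset.card_pos.2 ⟨1, by simp [hS, q_one F]⟩
    have a1 := hone ![1, 0] (by decide)
    have a2 := hone ![0, 1] (by decide)
    have a3 := hone ![1, 1] (by decide)
    omega
  obtain ⟨j, k, hjk, hk, hj, hkc⟩ := fix_cases F τ hτne
  have hkeq : k = 4 := Nat.pow_right_injective (le_refl 2) (hkc.symm.trans (h16.trans (by norm_num)))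
  have hS' : S.card = 2 ^ j := by
    rw [← hj, Nat.card_eq_fintype_card, hS, ← Fintype.card_subtype]
    exact Fintype.card_congr (Equiv.subtypeEquivRight fun x => Iff.rfl)
  have h3 := card_fixSub_modEq hτ
  rw [hj, hkc, hkeq] at h3
  rw [hS'] at h7
  subst hkeq
  interval_cases j <;> first | omega | norm_num [Nat.ModEq] at h3

/-- An isometry group of an anisotropic pair of forms is solvable. -/
theorem isSolvable {L : Type*} [Group L] [Finite L] (ρ : L →* MulAut Q)
    (hρ : Function.Injective ρ) (hq : ∀ l x, F.q (ρ l x) = F.q x) : Group.IsSolvable L := by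
  classical
  have hel : ∀ r : ℕ, r.Prime → r ∣ Nat.card L → ∃ σ : MulAut Q, σ ≠ 1 ∧ σ ^ r = 1 ∧
      ∀ x, F.q (σ x) = F.q x := by
    intro r hr hd
    haveI := Fact.mk hr
    obtain ⟨l, hl⟩ := exists_prime_orderOf_dvd_card' r hd
    refine ⟨ρ l, fun e => ?_, by rw [← map_pow, ← hl, pow_orderOf_eq_one, map_one], hq l⟩
    have : l = 1 := hρ (e.trans (map_one ρ).symm)
    rw [this, orderOf_one] at hl
    exact hr.one_lt.ne hl
  have hpr : ∀ r : ℕ, r.Prime → r ∣ Nat.card L → r = 2 ∨ r = 3 ∨ r = 5 := by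
    intro r hr hd
    obtain ⟨σ, hne, hσ, hqσ⟩ := hel r hr hd
    have h7 := order_prime F hr hσ hne
    have h7' : r ≠ 7 := fun e => hne (not_seven F hqσ (e ▸ hσ))
    interval_cases r <;> first | omega | norm_num at hr
  obtain ⟨q', hq'p, hq'⟩ : ∃ q' : ℕ, q'.Prime ∧ ∀ r : ℕ, r.Prime → r ∣ Nat.card L → r = 2 ∨ r = q' := by
    by_cases h5 : 5 ∣ Nat.card L
    · refine ⟨5, by norm_num, fun r hr hd => ?_⟩
      rcases hpr r hr hd with rfl | rfl | rfl
      · exact Or.inl rfl
      · obtain ⟨σ, hne, hσ, hqσ⟩ := hel 5 (by norm_num) h5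
        obtain ⟨τ, hne', hτ, hqτ⟩ := hel 3 hr hd
        exact absurd (not_three_five F hqσ hσ hne hqτ hτ) hne'
      · exact Or.inr rfl
    · refine ⟨3, by norm_num, fun r hr hd => ?_⟩
      rcases hpr r hr hd with rfl | rfl | rfl
      exacts [Or.inl rfl, Or.inr rfl, absurd hd h5]
  obtain ⟨a, m, hm, ham⟩ := Nat.exists_eq_pow_mul_and_not_dvd (Nat.card_pos (α := L)).ne' 2 (by norm_num)
  have hm0 : m ≠ 0 := by rintro rfl; exact hm (dvd_zero 2)
  have hmq := Nat.eq_prime_pow_of_unique_prime_dvd hm0 (p := q') fun {d} hd hdm =>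
    (hq' d hd (hdm.trans ⟨2 ^ a, by rw [ham]; ring⟩)).resolve_left fun e => hm (e ▸ hdm)
  exact S0144.result 2 q' a _ Nat.prime_two hq'p (by rw [ham, ← hmq])

end Cfsg.Agent.AnisoQuad
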