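import Cfsg.Agent.Lib.AnisoQuad.Solvable
import Cfsg.Agent.Lib.Functors.Critical

/-!
Automorphisms fixing the involutions of a 2-group with at most three, all central, form a solvable group.
-/

set_option autoImplicit false
set_option linter.unusedSectionVars false
set_option linter.style.haveILetI false

namespace Cfsg.Agent.AnisoQuad

/-- A group without elements of odd order other than one is a 2-group. -/
theorem isPGroup_of_odd_trivial {L : Type*} [Group L] [Finite L]
    (h : ∀ x : L, Odd (orderOf x) → x = 1) : IsPGroup 2 L := by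
  intro x
  obtain ⟨a, m, hm, ham⟩ := Nat.exists_eq_pow_mul_and_not_dvd (orderOf_pos x).ne' 2 (by norm_num)
  refine ⟨a, h _ ?_⟩
  rw [orderOf_pow, ham, Nat.gcd_mul_right_left, Nat.mul_div_cancel_left _ (Nat.two_pow_pos a)]
  exact Nat.not_even_iff_odd.1 fun e => hm e.two_dvd

theorem isSolvable_of_odd_trivial {L : Type*} [Group L] [Finite L]
    (h : ∀ x : L, Odd (orderOf x) → x = 1) : Group.IsSolvable L := by
  haveI : Fact (Nat.Prime 2) := ⟨Nat.prime_two⟩
  haveI := (isPGroup_of_odd_trivial h).isNilpotent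
  infer_instance

/-- Solvability from a kernel without odd elements and a solvable codomain. -/
theorem isSolvable_of_hom {L M : Type*} [Group L] [Finite L] [Group M] (f : L →* M)
    (hM : Group.IsSolvable f.range)
    (h : ∀ x : L, f x = 1 → Odd (orderOf x) → x = 1) : Group.IsSolvable L := by
  haveI := hM
  haveI : Group.IsSolvable f.ker := isSolvable_of_odd_trivial fun x hx =>
    Subtype.ext (h x x.2 (by rwa [Subgroup.orderOf_coe]))
  exact Group.isSolvable_of_ker_le_range (G' := ↥f.ker) (G'' := ↥f.range) f.ker.subtype f.rangeRestrict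
    (fun x hx => ⟨⟨x, by simpa [MonoidHom.mem_ker, Subtype.ext_iff] using hx⟩, rfl⟩)

/-- A transformation `x ↦ x w` with fixed `w` of two-power order and odd period is trivial. -/
theorem eq_of_odd_shift {H : Type*} [Group H] (hH : IsPGroup 2 H) {σ : MulAut H} {x w : H}
    (hσ : Odd (orderOf σ)) (hx : σ x = x * w) (hw : σ w = w) : σ x = x := by
  have hp : ∀ n : ℕ, (σ ^ n) x = x * w ^ n := by
    intro n
    induction n with
    | zero => simp
    | succ n ih => rw [pow_succ', MulAut.mul_apply, ih, map_mul, map_pow, hw, hx, mul_assoc, ← pow_succ']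
  have h1 := hp (orderOf σ)
  rw [pow_orderOf_eq_one, MulAut.one_apply, left_eq_mul] at h1
  obtain ⟨k, hk⟩ := hH w
  have h2 : w ^ Nat.gcd (orderOf σ) (2 ^ k) = 1 := pow_gcd_eq_one.2 ⟨h1, hk⟩
  rw [(Nat.Coprime.pow_right k (Nat.coprime_two_right.2 hσ)).gcd_eq_one, pow_one] at h2
  rw [hx, h2, mul_one]

/-- An automorphism of odd order fixing the elements of order two fixes everything. -/
theorem eq_one_of_fix_invol {Z : Type*} [CommGroup Z] (hZ : IsPGroup 2 Z) {σ : MulAut Z}
    (hσ : Odd (orderOf σ)) (h : ∀ z : Z, z * z = 1 → σ z = z) : σ = 1 := by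
  have key : ∀ k, ∀ z : Z, z ^ 2 ^ k = 1 → σ z = z := by
    intro k
    induction k with
    | zero => intro z hz; simp only [pow_zero, pow_one] at hz; rw [hz, map_one]
    | succ k ih =>
      intro z hz
      have h2 : σ (z ^ 2) = z ^ 2 := ih _ (by rw [← pow_mul, ← pow_succ', hz])
      have hw : (z⁻¹ * σ z) * (z⁻¹ * σ z) = 1 := by
        rw [← pow_two, mul_pow, inv_pow, ← map_pow, h2, inv_mul_cancel]
      exact eq_of_odd_shift hZ hσ (mul_inv_cancel_left z (σ z)).symm (h _ hw)
  ext z
  obtain ⟨k, hk⟩ := hZ z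
  exact key k z hk

/-- An elementary abelian group of order at most four embeds in pairs of bits. -/
theorem exists_bits {W : Type*} [CommGroup W] [Finite W] (h2 : ∀ w : W, w * w = 1)
    (hc : Nat.card W ≤ 4) : ∃ ψ : W → Fin 2 → ZMod 2,
      (∀ a b, ψ (a * b) = ψ a + ψ b) ∧ Function.Injective ψ := by
  letI : Module (ZMod 2) (Additive W) := AddCommGroup.zmodModule fun x => by
    apply Additive.toMul.injective
    rw [toMul_nsmul, toMul_zero, pow_two, h2]
  haveI : Finite (Additive W) := ‹Finite W›
  haveI : Module.Finite (ZMod 2) (Additive W) := Module.Finite.of_finite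
  set n := Module.finrank (ZMod 2) (Additive W) with hn
  have hcard : Nat.card W = 2 ^ n := by
    rw [hn]
    have := Module.natCard_eq_pow_finrank (K := ZMod 2) (V := Additive W)
    rwa [Nat.card_zmod, Nat.card_congr Additive.toMul] at this
  have hn2 : n ≤ 2 := by
    rw [hcard] at hc
    exact (Nat.pow_le_pow_iff_right (le_refl 2)).1 (hc.trans (by norm_num))
  let e := (Module.finBasis (ZMod 2) (Additive W)).equivFun
  refine ⟨fun w i => if hi : (i : ℕ) < n then e (Additive.ofMul w) ⟨i, hi⟩ else 0, fun a b => ?_, ?_⟩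
  · funext i
    by_cases hi : (i : ℕ) < n
    · simp only [Pi.add_apply, dif_pos hi, ofMul_mul, map_add]
    · simp only [Pi.add_apply, dif_neg hi, add_zero]
  · intro a b hab
    apply Additive.ofMul.injective
    apply e.injective
    funext j
    have := congrFun hab ⟨j, lt_of_lt_of_le j.2 hn2⟩
    have hj : ((⟨(j : ℕ), lt_of_lt_of_le j.2 hn2⟩ : Fin 2) : ℕ) < n := j.2
    simp only at this
    rw [dif_pos hj, dif_pos hj] at this
    exact this

variable {H : Type*} [Group H] [Finite H]

/-- The class two step. -/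
theorem isSolvable_class_two (hH : IsPGroup 2 H) (hsq : ∀ x : H, x * x ∈ Subgroup.center H)
    (hcomm : ∀ x y : H, x⁻¹ * y * x * y⁻¹ ∈ Subgroup.center H)
    (hinv : ∀ x : H, x * x = 1 → x ∈ Subgroup.center H) (h4 : Nat.card {x : H // x * x = 1} ≤ 4)
    (K : Subgroup (MulAut H)) (hK : ∀ k ∈ K, ∀ x : H, x * x = 1 → k x = x) :
    Group.IsSolvable K := by
  classical
  haveI : Fact (Nat.Prime 2) := ⟨Nat.prime_two⟩
  set Z := Subgroup.center H with hZ
  letI : CommGroup Z :=
    { (inferInstance : Group Z) with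
      mul_comm := fun a b => Subtype.ext (Subgroup.mem_center_iff.1 b.2 a) }
  have hfix : ∀ k ∈ K, Z.map k.toMonoidHom = Z := fun k _ =>
    Subgroup.characteristic_iff_map_eq.1 inferInstance k
  let resZ : K →* MulAut Z :=
    { toFun := fun k => (MulEquiv.subgroupMap (k : MulAut H) Z).trans (MulEquiv.subgroupCongr (hfix k k.2))
      map_one' := by ext x; rfl
      map_mul' := fun a b => by ext x; rfl }
  have hres : ∀ (k : K) (z : Z), ((resZ k z : Z) : H) = (k : MulAut H) z := fun _ _ => rfl
  haveI : Group.IsSolvable resZ.range := isSolvable_of_odd_trivial fun y hy => by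
    obtain ⟨_, k, rfl⟩ := y
    rw [← Subgroup.orderOf_coe] at hy
    refine Subtype.ext (eq_one_of_fix_invol (Z := ↥Z) (σ := resZ k) (hH.to_subgroup Z) hy fun z hz => Subtype.ext ?_)
    rw [hres]
    exact hK k k.2 z (congrArg Subtype.val hz)
  suffices hker : Group.IsSolvable resZ.ker by
    haveI := hker
    exact Group.isSolvable_of_ker_le_range (G' := ↥resZ.ker) (G'' := ↥resZ.range) resZ.ker.subtype
      resZ.rangeRestrict (fun x hx => ⟨⟨x, by simpa [MonoidHom.mem_ker, Subtype.ext_iff] using hx⟩, rfl⟩)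
  have hfz : ∀ k : resZ.ker, ∀ z ∈ Z, ((k : K) : MulAut H) z = z := fun k z hz => by
    rw [← hres k ⟨z, hz⟩, MonoidHom.mem_ker.1 k.2]; rfl
  -- the quotient
  letI : CommGroup (H ⧸ Z) :=
    { (inferInstance : Group (H ⧸ Z)) with
      mul_comm := fun a b => by
        induction a using QuotientGroup.induction_on with
        | _ a =>
        induction b using QuotientGroup.induction_on with
        | _ b =>
        rw [← QuotientGroup.mk_mul, ← QuotientGroup.mk_mul, QuotientGroup.eq]
        simpa [mul_assoc] using hcomm b a⁻¹ }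
  -- the values
  set sqr : Z →* Z := powMonoidHom 2 with hsqr
  have hWcard : Nat.card (Z ⧸ sqr.range) ≤ 4 := by
    have h1 := sqr.ker.card_mul_index
    rw [Subgroup.index_ker, ← sqr.range.card_mul_index, mul_comm] at h1
    have h2 : Nat.card (Z ⧸ sqr.range) = Nat.card sqr.ker :=
      (Nat.eq_of_mul_eq_mul_left Nat.card_pos h1).symm
    rw [h2]
    refine le_trans (Nat.card_le_card_of_injective
      (fun x => (⟨((x : Z) : H), ?_⟩ : {y : H // y * y = 1})) ?_) h4
    · have : (x : Z) ^ 2 = 1 := MonoidHom.mem_ker.1 x.2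
      rw [pow_two] at this
      exact congrArg Subtype.val this
    · intro a b hab
      exact Subtype.ext (Subtype.ext (congrArg Subtype.val hab :))
  have hW2 : ∀ w : Z ⧸ sqr.range, w * w = 1 := fun w => by
    induction w using QuotientGroup.induction_on with
    | _ w => rw [← QuotientGroup.mk_mul, QuotientGroup.eq_one_iff]; exact ⟨w, by simp [hsqr, pow_two]⟩
  obtain ⟨ψ, hψ, hψi⟩ := exists_bits hW2 hWcard
  have hψ1 : ψ 1 = 0 := by
    have := hψ 1 1
    rw [one_mul] at this
    exact left_eq_add.1 this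
  set v : H → Fin 2 → ZMod 2 := fun x => ψ (QuotientGroup.mk ⟨x * x, hsq x⟩) with hv
  set cc : H → H → Fin 2 → ZMod 2 := fun x y => ψ (QuotientGroup.mk ⟨_, hcomm x y⟩) with hcc
  have hvmul : ∀ x y, v (x * y) = v x + v y + cc x y := by
    intro x y
    simp only [hv, hcc, ← hψ, ← QuotientGroup.mk_mul]
    congr 2
    refine Subtype.ext ?_
    simp only [Subgroup.coe_mul]
    have hc := Subgroup.mem_center_iff.1 (hcomm x y) (y * y)
    calc x * y * (x * y) = x * x * (x⁻¹ * y * x * y⁻¹ * (y * y)) := by group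
      _ = x * x * (y * y) * (x⁻¹ * y * x * y⁻¹) := by rw [← hc, mul_assoc (x * x)]
  have hccmul : ∀ x x' y, cc (x * x') y = cc x y + cc x' y := by
    intro x x' y
    simp only [hcc, ← hψ, ← QuotientGroup.mk_mul]
    congr 2
    refine Subtype.ext ?_
    simp only [Subgroup.coe_mul]
    have hc := Subgroup.mem_center_iff.1 (hcomm x y) x'⁻¹
    calc (x * x')⁻¹ * y * (x * x') * y⁻¹
        = x'⁻¹ * (x⁻¹ * y * x * y⁻¹) * (y * x' * y⁻¹) := by group
      _ = x⁻¹ * y * x * y⁻¹ * (x'⁻¹ * y * x' * y⁻¹) := by rw [hc]; group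
  have hvz : ∀ x, ∀ z ∈ Z, v (x * z) = v x := by
    intro x z hz
    rw [hvmul]
    have e1 : v z = 0 := by
      simp only [hv]
      rw [show (⟨z * z, hsq z⟩ : Z) = sqr ⟨z, hz⟩ from Subtype.ext (by simp [hsqr, pow_two]),
        (QuotientGroup.eq_one_iff (sqr ⟨z, hz⟩)).2 (MonoidHom.mem_range.2 ⟨_, rfl⟩), hψ1]
    have e2 : cc x z = 0 := by
      simp only [hcc]
      rw [show (⟨x⁻¹ * z * x * z⁻¹, hcomm x z⟩ : Z) = 1 from Subtype.ext (by
        show x⁻¹ * z * x * z⁻¹ = 1
        rw [show x⁻¹ * z = z * x⁻¹ from Subgroup.mem_center_iff.1 hz x⁻¹]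
        simp), QuotientGroup.mk_one, hψ1]
    rw [e1, e2, add_zero, add_zero]
  set q : H ⧸ Z → Fin 2 → ZMod 2 := fun y => v y.out with hqdef
  have hq : ∀ x : H, q (x : H ⧸ Z) = v x := fun x => by
    obtain ⟨z, hz⟩ := QuotientGroup.mk_out_eq_mul Z x
    rw [hqdef]; simp only [hz]; exact hvz x z z.2
  let F : Form (H ⧸ Z) :=
    { q := q
      b := fun a b => q (a * b) + q a + q b
      sq := fun y => by
        induction y using QuotientGroup.induction_on with
        | _ y => rw [← QuotientGroup.mk_mul, QuotientGroup.eq_one_iff]; exact hsq y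
      q_mul := fun a b => by funext i; simp only [Pi.add_apply]; ring_nf; simp [show (2 : ZMod 2) = 0 from rfl]
      b_left := fun a b c => by
        induction a using QuotientGroup.induction_on with
        | _ a =>
        induction b using QuotientGroup.induction_on with
        | _ b =>
        induction c using QuotientGroup.induction_on with
        | _ c =>
        simp only [← QuotientGroup.mk_mul, hq, hvmul, hccmul]
        funext i; simp only [Pi.add_apply]; ring_nf
        simp [show (2 : ZMod 2) = 0 from rfl, show (4 : ZMod 2) = 0 from rfl]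
      aniso := fun y hy => by
        induction y using QuotientGroup.induction_on with
        | _ x =>
        rw [hq] at hy
        have h1 : (QuotientGroup.mk (⟨x * x, hsq x⟩ : Z) : Z ⧸ sqr.range) = 1 := hψi (by rw [hψ1]; exact hy)
        obtain ⟨w, hw⟩ := (QuotientGroup.eq_one_iff _).1 h1
        have hw' : (w : H) * w = x * x := by
          have := congrArg Subtype.val hw
          simpa [hsqr, pow_two] using this
        rw [QuotientGroup.eq_one_iff]
        have hc : (w : H)⁻¹ * x = x * (w : H)⁻¹ := (Subgroup.mem_center_iff.1 (inv_mem w.2) x).symm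
        have h2 : x * (w : H)⁻¹ * (x * (w : H)⁻¹) = 1 := by
          calc x * (w : H)⁻¹ * (x * (w : H)⁻¹) = x * ((w : H)⁻¹ * x) * (w : H)⁻¹ := by group
            _ = x * x * ((w : H) * w)⁻¹ := by rw [hc]; group
            _ = 1 := by rw [hw', mul_inv_cancel]
        simpa using mul_mem (hinv _ h2) w.2 }
  let ρ : resZ.ker →* MulAut (H ⧸ Z) :=
    { toFun := fun k => QuotientGroup.congr Z Z ((k : K) : MulAut H) (hfix _ (k : K).2)
      map_one' := by
        ext y; induction y using QuotientGroup.induction_on with | _ y => rfl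
      map_mul' := fun a b => by
        ext y; induction y using QuotientGroup.induction_on with | _ y => rfl }
  have hρ : ∀ (k : resZ.ker) (x : H), ρ k (x : H ⧸ Z) = (((k : K) : MulAut H) x : H ⧸ Z) := fun _ _ => rfl
  refine isSolvable_of_hom ρ (AnisoQuad.isSolvable F ρ.range.subtype ρ.range.subtype_injective ?_) ?_
  · rintro ⟨_, k, rfl⟩ y
    induction y using QuotientGroup.induction_on with
    | _ x =>
    show q _ = q _
    rw [Subgroup.coe_subtype, hρ, hq, hq]
    simp only [hv]
    congr 2
    refine Subtype.ext ?_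
    show ((k : K) : MulAut H) x * ((k : K) : MulAut H) x = x * x
    rw [← map_mul]
    exact hfz k _ (hsq x)
  · intro k hk hodd
    rw [← Subgroup.orderOf_coe, ← Subgroup.orderOf_coe] at hodd
    refine Subtype.ext (Subtype.ext (MulEquiv.ext fun x => ?_))
    have h1 : x⁻¹ * ((k : K) : MulAut H) x ∈ Z := by
      rw [← QuotientGroup.eq, ← hρ, hk]; rfl
    exact eq_of_odd_shift hH hodd (mul_inv_cancel_left x _).symm (hfz k _ h1)

/-- Automorphisms fixing all involutions, if these are central and at most three. -/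
theorem isSolvable_of_central {Y : Type*} [Group Y] [Finite Y] (hY : IsPGroup 2 Y)
    (hinv : ∀ x : Y, x * x = 1 → x ∈ Subgroup.center Y) (h4 : Nat.card {x : Y // x * x = 1} ≤ 4)
    (K : Subgroup (MulAut Y)) (hK : ∀ k ∈ K, ∀ x : Y, x * x = 1 → k x = x) :
    Group.IsSolvable K := by
  classical
  haveI : Fact (Nat.Prime 2) := ⟨Nat.prime_two⟩
  obtain ⟨C, hC⟩ := Critical.exists_critical hY
  haveI := hC.char
  have hfix : ∀ k : MulAut Y, C.map k.toMonoidHom = C := fun k =>
    Subgroup.characteristic_iff_map_eq.1 hC.char k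
  let r : K →* MulAut C :=
    { toFun := fun k => (MulEquiv.subgroupMap (k : MulAut Y) C).trans (MulEquiv.subgroupCongr (hfix k))
      map_one' := by ext x; rfl
      map_mul' := fun a b => by ext x; rfl }
  have hr : ∀ (k : K) (c : C), ((r k c : C) : Y) = (k : MulAut Y) c := fun _ _ => rfl
  have hcen : ∀ c : C, (c : Y) ∈ C ⊓ Subgroup.centralizer (C : Set Y) → c ∈ Subgroup.center C :=
    fun c hc => Subgroup.mem_center_iff.2 fun d => Subtype.ext
      (Subgroup.mem_centralizer_iff.1 hc.2 d d.2)
  refine isSolvable_of_hom r (isSolvable_class_two (hY.to_subgroup C) ?_ ?_ ?_ ?_ r.range ?_) ?_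
  · exact fun x => hcen _ (by simpa [pow_two] using hC.pow x x.2)
  · intro x y
    refine hcen _ ?_
    have := hC.comm (Subgroup.commutator_mem_commutator (Subgroup.mem_top ((x : Y)⁻¹)) y.2)
    simpa [commutatorElement_def] using this
  · exact fun x hx => hcen x ⟨x.2, Subgroup.mem_centralizer_iff.2 fun d _ =>
      Subgroup.mem_center_iff.1 (hinv x (congrArg Subtype.val hx)) d⟩
  · exact le_trans (Nat.card_le_card_of_injective
      (fun x => (⟨((x : C) : Y), congrArg Subtype.val x.2⟩ : {y : Y // y * y = 1}))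
      (fun a b hab => Subtype.ext (Subtype.ext (congrArg Subtype.val hab :)))) h4
  · rintro _ ⟨k, rfl⟩ x hx
    exact Subtype.ext (hK k k.2 x (congrArg Subtype.val hx))
  · intro k hk hodd
    refine Subtype.ext (hC.mulAut_eq_one' hY ?_ fun x hx => ?_)
    · rw [Subgroup.orderOf_coe]; exact Nat.coprime_two_right.2 hodd
    · rw [← hr k ⟨x, hx⟩, hk]; rfl

end Cfsg.Agent.AnisoQuad
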